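import Groth.Agent.An.H162.RelLine
import Groth.Agent.An.H862.AffTop

/-!
# Complex points of an affine scheme and of its ring; local product structure for `Spec R[z]_D → Spec R`

* `homeoPts e he : An.Pts X ≃ₜ Pts A` for `X` affine, locally of finite type, `e : A ≃+* Γ(X, ⊤)` over `ℂ`;
* `exists_local_product`: `R = ℂ[y₁, …, y_m]_Δ`, `D : R[X]` monic separable, `S = Spec R`, `B = Spec R[X]_D`; near every
  complex point of `S` there is an open `V`, homeomorphic by the coordinates to a convex open set `C` of `ℂᵐ`, and a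
  finite set `F` such that the part of `B(ℂ)` over `V` is homeomorphic over `C` to `C × (ℂ ∖ F)`.
-/

set_option autoImplicit false

open CategoryTheory AlgebraicGeometry Topology TopologicalSpace Opposite Filter

noncomputable section

namespace Groth.Agent.An.H162.PtsB

open Groth.Agent.An.H863.PtsBasic Groth.Agent.An.H863.PtsCont
open Groth.Agent.Pi1.H387.Pts Groth.Agent.An.H162.RelLine

section bridge

variable {X : Scheme.{0}} [X.Over An.SC] {A : Type*} [CommRing A] [Algebra ℂ A]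
  (e : A ≃+* Γ(X, ⊤)) (he : ∀ c, e (algebraMap ℂ A c) = An.strHom X c)

/-- The point of the ring attached to a point of the scheme. -/
def toPts (x : An.Pts X) : Pts A :=
  ({ (evHom x ⊤ (Opens.mem_top _)).comp e.toRingHom with
      commutes' := fun c => by
        change x.evTop (e (algebraMap ℂ A c)) = c
        rw [he, evTop_strHom] } : A →ₐ[ℂ] ℂ)

@[simp] lemma toPts_apply (x : An.Pts X) (a : A) : toPts e he x a = x.evTop (e a) := rfl

variable [IsAffine X] [LocallyOfFiniteType (X ↘ An.SC)]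

omit he in
lemma isEmbedding_evTop : IsEmbedding (fun (x : An.Pts X) (f : Γ(X, ⊤)) => x.evTop f) := by
  refine (Groth.Agent.An.H862.AffTop.isClosedEmbedding_evTop (X := X) (ι := Γ(X, ⊤)) id ?_).isEmbedding
  intro f
  exact ⟨MvPolynomial.X f, by simp⟩

lemma isEmbedding_toPts : IsEmbedding (toPts e he) := by
  refine ⟨?_, ?_⟩
  · rw [← (Groth.Agent.Pi1.H387.Pts.isInducing (B := A)).of_comp_iff]
    have h1 : (fun (x : Pts A) (a : A) => x a) ∘ toPts e he =
        (fun (u : Γ(X, ⊤) → ℂ) (a : A) => u (e a)) ∘ (fun (x : An.Pts X) (f : Γ(X, ⊤)) => x.evTop f) := rfl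
    rw [h1]
    let h2 : (Γ(X, ⊤) → ℂ) ≃ₜ (A → ℂ) :=
      { toFun := fun u a => u (e a)
        invFun := fun v f => v (e.symm f)
        left_inv := fun u => by
          funext f
          change u (e (e.symm f)) = u f
          rw [e.apply_symm_apply]
        right_inv := fun v => by
          funext a
          change v (e.symm (e a)) = v a
          rw [e.symm_apply_apply]
        continuous_toFun := continuous_pi fun a => continuous_apply _
        continuous_invFun := continuous_pi fun a => continuous_apply _ }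
    exact h2.isInducing.comp isEmbedding_evTop.isInducing
  · intro x y h
    apply isEmbedding_evTop.injective
    funext f
    obtain ⟨a, rfl⟩ := e.surjective f
    exact DFunLike.congr_fun h a

lemma toPts_surjective : Function.Surjective (toPts e he) := by
  intro φ
  obtain ⟨x, hx, hev⟩ := Groth.Agent.An.H867.Nhds.exists_pts_of_ringHom (X := X) ⊤ (isAffineOpen_top X)
    (((φ : A →ₐ[ℂ] ℂ) : A →+* ℂ).comp e.symm.toRingHom) (by
      intro c
      rw [Groth.Agent.An.H862.AffTop.strU_top]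
      change φ (e.symm (An.strHom X c)) = c
      rw [← he, e.symm_apply_apply]
      exact AlgHomClass.commutes φ c)
  refine ⟨x, ext' fun a => ?_⟩
  rw [toPts_apply]
  have h1 := RingHom.congr_fun hev (e a)
  rw [evHom_apply] at h1
  refine h1.trans ?_
  change φ (e.symm (e a)) = φ a
  rw [e.symm_apply_apply]

/-- The complex points of an affine scheme are the complex points of its ring. -/
def homeoPts : An.Pts X ≃ₜ Pts A :=
  (Equiv.ofBijective (toPts e he) ⟨(isEmbedding_toPts e he).injective,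
    toPts_surjective e he⟩).toHomeomorphOfIsInducing (isEmbedding_toPts e he).isInducing

@[simp] lemma homeoPts_apply (x : An.Pts X) : homeoPts e he x = toPts e he x := rfl

end bridge

section main

variable {m : ℕ} (Δ : MvPolynomial (Fin m) ℂ)
  (R : Type*) [CommRing R] [Algebra ℂ R] [Algebra (MvPolynomial (Fin m) ℂ) R]
  [IsScalarTower ℂ (MvPolynomial (Fin m) ℂ) R] [IsLocalization.Away Δ R]
  (D : Polynomial R) (Bf : Type*) [CommRing Bf] [Algebra ℂ Bf] [Algebra (Polynomial R) Bf]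
  [IsScalarTower ℂ (Polynomial R) Bf] [IsLocalization.Away D Bf]
  {S B : Scheme.{0}} [S.Over An.SC] [B.Over An.SC] [IsAffine S] [IsAffine B]
  [LocallyOfFiniteType (S ↘ An.SC)] [LocallyOfFiniteType (B ↘ An.SC)]
  (eS : R ≃+* Γ(S, ⊤)) (heS : ∀ c, eS (algebraMap ℂ R c) = An.strHom S c)
  (eB : Bf ≃+* Γ(B, ⊤)) (heB : ∀ c, eB (algebraMap ℂ Bf c) = An.strHom B c)
  (π : B ⟶ S) [π.IsOver An.SC]
  (hπ : ∀ r : R, π.appTop (eS r) = eB (algebraMap (Polynomial R) Bf (Polynomial.C r)))

/-- The coordinates of a complex point of `S`. -/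
def coordS (x : An.Pts S) : Fin m → ℂ :=
  fun i => x.evTop (eS (algebraMap (MvPolynomial (Fin m) ℂ) R (MvPolynomial.X i)))

include heS in
omit [IsAffine S] [LocallyOfFiniteType (S ↘ An.SC)] [IsScalarTower ℂ (MvPolynomial (Fin m) ℂ) R] in
lemma coordS_eq (x : An.Pts S) : coordS (m := m) R eS x = coord m R (toPts eS heS x) := rfl

include Δ heS in
lemma isOpenEmbedding_coordS : IsOpenEmbedding (coordS (m := m) R eS) :=
  (isOpenEmbedding_coord m R Δ).comp (homeoPts eS heS).isOpenEmbedding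

include heS in
lemma range_coordS : Set.range (coordS (m := m) R eS) = {y | MvPolynomial.eval y Δ ≠ 0} := by
  rw [← range_coord m R Δ]
  ext y
  constructor
  · rintro ⟨x, rfl⟩
    exact ⟨toPts eS heS x, rfl⟩
  · rintro ⟨x, rfl⟩
    obtain ⟨x', rfl⟩ := toPts_surjective eS heS x
    exact ⟨x', rfl⟩

include hπ in
omit [IsAffine S] [IsAffine B] [LocallyOfFiniteType (S ↘ An.SC)] [LocallyOfFiniteType (B ↘ An.SC)]
  [IsLocalization.Away Δ R] [IsLocalization.Away D Bf] in
lemma toPts_map (b : An.Pts B) :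
    toPts eS heS (An.Pts.map π b) = prR R Bf (toPts eB heB b) := by
  refine ext' fun r => ?_
  change (An.Pts.map π b).evTop (eS r) = b.evTop (eB (algebraMap (Polynomial R) Bf (Polynomial.C r)))
  rw [← hπ]
  exact An.Pts.ev_map π b ⊤ _ _

include Δ D heS heB hπ in
/-- **Local product structure.** -/
theorem exists_local_product (hD : D.Monic) (hsep : D.Separable) (s : An.Pts S)
    {N : Set (An.Pts S)} (hN : N ∈ 𝓝 s) :
    ∃ (C : Set (Fin m → ℂ)) (F : Set ℂ), IsOpen C ∧ Convex ℝ C ∧ coordS (m := m) R eS s ∈ C ∧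
      F.Finite ∧ (∀ x : An.Pts S, coordS (m := m) R eS x ∈ C → x ∈ N) ∧
      ∃ (e : {x : An.Pts S // coordS (m := m) R eS x ∈ C} ≃ₜ C)
        (φ : {b : An.Pts B // coordS (m := m) R eS (An.Pts.map π b) ∈ C} ≃ₜ C × (Fᶜ : Set ℂ)),
        (∀ x, (e x : Fin m → ℂ) = coordS (m := m) R eS x.1) ∧
        ∀ b, ((φ b).1 : Fin m → ℂ) = coordS (m := m) R eS (An.Pts.map π b.1) := by
  have hN' : (homeoPts eS heS) '' N ∈ 𝓝 (homeoPts eS heS s) :=
    (homeoPts eS heS).isOpenMap.image_mem_nhds hN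
  obtain ⟨C, F, hCo, hCc, hsC, hF, hCN, e, φ, he, hφ⟩ :=
    RelLine.exists_local_product (m := m) Δ R D Bf hD hsep (homeoPts eS heS s) hN'
  have hmap : ∀ b : An.Pts B, coordS (m := m) R eS (An.Pts.map π b) =
      coord m R (prR R Bf (homeoPts eB heB b)) := by
    intro b
    rw [coordS_eq R eS heS, toPts_map R Bf eS heS eB heB π hπ]
    rfl
  let hS : {x : An.Pts S // coordS (m := m) R eS x ∈ C} ≃ₜ {x : Pts R // coord m R x ∈ C} :=
    (homeoPts eS heS).subtype fun x => Iff.rfl
  let hB : {b : An.Pts B // coordS (m := m) R eS (An.Pts.map π b) ∈ C} ≃ₜ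
      {b : Pts Bf // coord m R (prR R Bf b) ∈ C} :=
    (homeoPts eB heB).subtype fun b => by rw [hmap]
  refine ⟨C, F, hCo, hCc, hsC, hF, ?_, hS.trans e, hB.trans φ, fun x => ?_, fun b => ?_⟩
  · intro x hx
    obtain ⟨x', hx', hxx'⟩ := hCN (homeoPts eS heS x) hx
    rwa [(homeoPts eS heS).injective hxx'] at hx'
  · exact he _
  · rw [hmap]
    exact hφ _

include Δ D heS heB hπ in
/-- **Local product structure**, with an open subset of `S(ℂ)`. -/
theorem exists_opens (hD : D.Monic) (hsep : D.Separable) (s : An.Pts S)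
    {N : Set (An.Pts S)} (hN : N ∈ 𝓝 s) :
    ∃ (V : Opens (An.Pts S)) (C : Set (Fin m → ℂ)) (F : Set ℂ) (e : V ≃ₜ C)
      (φ : {b : An.Pts B // An.Pts.map π b ∈ V} ≃ₜ C × (Fᶜ : Set ℂ)),
      s ∈ V ∧ (V : Set (An.Pts S)) ⊆ N ∧ IsOpen C ∧ Convex ℝ C ∧ F.Finite ∧
      (∀ x, (e x : Fin m → ℂ) = coordS (m := m) R eS x.1) ∧
      ∀ b, (φ b).1 = e ⟨An.Pts.map π b.1, b.2⟩ := by
  obtain ⟨C, F, hCo, hCc, hsC, hF, hCN, e, φ, he, hφ⟩ :=
    exists_local_product Δ R D Bf eS heS eB heB π hπ hD hsep s hN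
  refine ⟨⟨{x | coordS (m := m) R eS x ∈ C},
    hCo.preimage (isOpenEmbedding_coordS Δ R eS heS).continuous⟩, C, F, e, φ, hsC,
    fun x hx => hCN x hx, hCo, hCc, hF, he, fun b => Subtype.ext ?_⟩
  rw [he]
  exact hφ b

end main

section spec

/-- The case of the spectra of the rings: `S = Spec R`, `B = Spec R[X]_D`, any structure over `ℂ` given by the
algebra structure. -/
theorem exists_opens_spec {m : ℕ} (Δ : MvPolynomial (Fin m) ℂ)
    (R : Type) [CommRing R] [Algebra ℂ R] [Algebra (MvPolynomial (Fin m) ℂ) R]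
    [IsScalarTower ℂ (MvPolynomial (Fin m) ℂ) R] [IsLocalization.Away Δ R]
    (D : Polynomial R) (hD : D.Monic) (hsep : D.Separable)
    (Bf : Type) [CommRing Bf] [Algebra ℂ Bf] [Algebra (Polynomial R) Bf]
    [IsScalarTower ℂ (Polynomial R) Bf] [IsLocalization.Away D Bf]
    [(Spec (CommRingCat.of R)).Over An.SC] [(Spec (CommRingCat.of Bf)).Over An.SC]
    (hS : (Spec (CommRingCat.of R) ↘ An.SC) = Spec.map (CommRingCat.ofHom (algebraMap ℂ R)))
    (hB : (Spec (CommRingCat.of Bf) ↘ An.SC) = Spec.map (CommRingCat.ofHom (algebraMap ℂ Bf)))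
    (π : Spec (CommRingCat.of Bf) ⟶ Spec (CommRingCat.of R)) [π.IsOver An.SC]
    (hπ : π = Spec.map (CommRingCat.ofHom ((algebraMap (Polynomial R) Bf).comp Polynomial.C)))
    (s : An.Pts (Spec (CommRingCat.of R))) {N : Set (An.Pts (Spec (CommRingCat.of R)))}
    (hN : N ∈ 𝓝 s) :
    ∃ (V : Opens (An.Pts (Spec (CommRingCat.of R)))) (C : Set (Fin m → ℂ)) (F : Set ℂ) (e : V ≃ₜ C)
      (φ : {b : An.Pts (Spec (CommRingCat.of Bf)) // An.Pts.map π b ∈ V} ≃ₜ C × (Fᶜ : Set ℂ)),
      s ∈ V ∧ (V : Set (An.Pts (Spec (CommRingCat.of R)))) ⊆ N ∧ IsOpen C ∧ Convex ℝ C ∧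
      F.Finite ∧
      (∀ x i, (e x : Fin m → ℂ) i = x.1.evTop ((Scheme.ΓSpecIso (CommRingCat.of R)).inv
        (algebraMap (MvPolynomial (Fin m) ℂ) R (MvPolynomial.X i)))) ∧
      ∀ b, (φ b).1 = e ⟨An.Pts.map π b.1, b.2⟩ := by
  have hfR : Algebra.FiniteType ℂ R := by
    have : Algebra.FiniteType (MvPolynomial (Fin m) ℂ) R :=
      IsLocalization.finiteType_of_monoid_fg (Submonoid.powers Δ) R
    exact Algebra.FiniteType.trans (S := MvPolynomial (Fin m) ℂ) inferInstance this
  have hfB : Algebra.FiniteType ℂ Bf := by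
    have h1 : Algebra.FiniteType (Polynomial R) Bf :=
      IsLocalization.finiteType_of_monoid_fg (Submonoid.powers D) Bf
    have h2 : Algebra.FiniteType ℂ (Polynomial R) :=
      Algebra.FiniteType.trans (S := R) hfR inferInstance
    exact Algebra.FiniteType.trans (S := Polynomial R) h2 h1
  have : LocallyOfFiniteType (Spec (CommRingCat.of R) ↘ An.SC) := by
    rw [hS, HasRingHomProperty.Spec_iff (P := @LocallyOfFiniteType)]
    exact RingHom.finiteType_algebraMap.2 hfR
  have : LocallyOfFiniteType (Spec (CommRingCat.of Bf) ↘ An.SC) := by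
    rw [hB, HasRingHomProperty.Spec_iff (P := @LocallyOfFiniteType)]
    exact RingHom.finiteType_algebraMap.2 hfB
  let eS : R ≃+* Γ(Spec (CommRingCat.of R), ⊤) :=
    (Scheme.ΓSpecIso (CommRingCat.of R)).symm.commRingCatIsoToRingEquiv
  let eB : Bf ≃+* Γ(Spec (CommRingCat.of Bf), ⊤) :=
    (Scheme.ΓSpecIso (CommRingCat.of Bf)).symm.commRingCatIsoToRingEquiv
  have key : ∀ (A A' : Type) [CommRing A] [CommRing A'] (f : A →+* A') (a : A),
      (Spec.map (CommRingCat.ofHom f)).appTop ((Scheme.ΓSpecIso (CommRingCat.of A)).inv a) =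
        (Scheme.ΓSpecIso (CommRingCat.of A')).inv (f a) := by
    intro A A' _ _ f a
    have h := Scheme.ΓSpecIso_inv_naturality (CommRingCat.ofHom f)
    exact (congr($h a)).symm
  obtain ⟨V, C, F, e, φ, hsV, hVN, hCo, hCc, hF, he, hφ⟩ := exists_opens Δ R D Bf eS (by
    intro c
    change _ = (Spec (CommRingCat.of R) ↘ An.SC).appTop ((Scheme.ΓSpecIso (CommRingCat.of ℂ)).inv c)
    rw [hS]
    exact (key _ _ _ _).symm) eB (by
    intro c
    change _ = (Spec (CommRingCat.of Bf) ↘ An.SC).appTop ((Scheme.ΓSpecIso (CommRingCat.of ℂ)).inv c)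
    rw [hB]
    exact (key _ _ _ _).symm) π (by
    intro r
    rw [hπ]
    exact key _ _ _ _) hD hsep s hN
  exact ⟨V, C, F, e, φ, hsV, hVN, hCo, hCc, hF, fun x i => congrFun (he x) i, hφ⟩

end spec

end Groth.Agent.An.H162.PtsB
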