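import Groth.Agent.An.H162.PtsB

/-!
# Local product structure over smaller subsets and over open boxes
-/

set_option autoImplicit false

open CategoryTheory AlgebraicGeometry Topology TopologicalSpace Opposite Filter

noncomputable section

namespace Groth.Agent.An.H162.PtsBox

/-- Restriction of a trivialization to a smaller subset of the base. -/
theorem exists_restrict {T Y Z : Type*} [TopologicalSpace T] [TopologicalSpace Y] [TopologicalSpace Z]
    (κ : T → Y) {C C' : Set Y} (hC : C' ⊆ C) (φ : {b : T // κ b ∈ C} ≃ₜ C × Z)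
    (hφ : ∀ b, ((φ b).1 : Y) = κ b.1) :
    ∃ φ' : {b : T // κ b ∈ C'} ≃ₜ C' × Z, (∀ b, ((φ' b).1 : Y) = κ b.1) ∧
      (∀ b, (φ' b).2 = (φ ⟨b.1, hC b.2⟩).2) := by
  have hinv : ∀ (c : C') (z : Z), κ (φ.symm (⟨c.1, hC c.2⟩, z)).1 = c.1 := by
    intro c z
    rw [← hφ, φ.apply_symm_apply]
  refine ⟨{ toFun := fun b => (⟨κ b.1, b.2⟩, (φ ⟨b.1, hC b.2⟩).2)
            invFun := fun q => ⟨(φ.symm (⟨q.1.1, hC q.1.2⟩, q.2)).1, by
              rw [hinv]; exact q.1.2⟩
            left_inv := fun b => by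
              refine Subtype.ext ?_
              have h1 : ((⟨κ b.1, hC b.2⟩ : C), (φ ⟨b.1, hC b.2⟩).2) = φ ⟨b.1, hC b.2⟩ :=
                Prod.ext (Subtype.ext (hφ ⟨b.1, hC b.2⟩).symm) rfl
              change (φ.symm ((⟨κ b.1, hC b.2⟩ : C), (φ ⟨b.1, hC b.2⟩).2)).1 = b.1
              rw [h1, φ.symm_apply_apply]
            right_inv := fun q => by
              refine Prod.ext (Subtype.ext (hinv q.1 q.2)) ?_
              change (φ ⟨(φ.symm ((⟨q.1.1, hC q.1.2⟩ : C), q.2)).1, _⟩).2 = q.2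
              have h1 : (⟨(φ.symm ((⟨q.1.1, hC q.1.2⟩ : C), q.2)).1,
                  (φ.symm ((⟨q.1.1, hC q.1.2⟩ : C), q.2)).2⟩ : {b : T // κ b ∈ C}) =
                  φ.symm ((⟨q.1.1, hC q.1.2⟩ : C), q.2) := rfl
              rw [h1, φ.apply_symm_apply]
            continuous_toFun := ?_
            continuous_invFun := ?_ }, fun b => rfl, fun b => rfl⟩
  · have h0 : Continuous fun b : {b : T // κ b ∈ C'} => (⟨b.1, hC b.2⟩ : {b : T // κ b ∈ C}) :=
      continuous_subtype_val.subtype_mk _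
    have h1 : Continuous fun b : {b : T // κ b ∈ C'} => φ ⟨b.1, hC b.2⟩ := φ.continuous.comp h0
    refine Continuous.prodMk (Continuous.subtype_mk ?_ _) (continuous_snd.comp h1)
    have h2 : Continuous fun b : {b : T // κ b ∈ C'} => ((φ ⟨b.1, hC b.2⟩).1 : Y) :=
      continuous_subtype_val.comp (continuous_fst.comp h1)
    simpa only [hφ] using h2
  · refine Continuous.subtype_mk ?_ _
    refine continuous_subtype_val.comp (φ.symm.continuous.comp ?_)
    exact ((continuous_subtype_val.comp continuous_fst).subtype_mk _).prodMk continuous_snd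

/-- Restriction of a chart to a smaller subset. -/
theorem exists_restrict_chart {T Y : Type*} [TopologicalSpace T] [TopologicalSpace Y]
    (κ : T → Y) {C C' : Set Y} (hC : C' ⊆ C) (φ : {b : T // κ b ∈ C} ≃ₜ C)
    (hφ : ∀ b, (φ b : Y) = κ b.1) :
    ∃ φ' : {b : T // κ b ∈ C'} ≃ₜ C', ∀ b, (φ' b : Y) = κ b.1 := by
  obtain ⟨φ', h1, -⟩ := exists_restrict (Z := Unit) κ hC (φ.trans (Homeomorph.prodPUnit C).symm)
    (fun b => hφ b)
  exact ⟨φ'.trans (Homeomorph.prodPUnit C'), fun b => h1 b⟩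

/-- The open box of half side `δ` around `c`. -/
def box {m : ℕ} (c : Fin m → ℂ) (δ : ℝ) : Set (Fin m → ℂ) :=
  {y | ∀ i, (c i).re - δ < (y i).re ∧ (y i).re < (c i).re + δ ∧
    (c i).im - δ < (y i).im ∧ (y i).im < (c i).im + δ}

lemma isOpen_box {m : ℕ} (c : Fin m → ℂ) (δ : ℝ) : IsOpen (box c δ) := by
  have : box c δ = ⋂ i, {y : Fin m → ℂ | (c i).re - δ < (y i).re ∧ (y i).re < (c i).re + δ ∧
    (c i).im - δ < (y i).im ∧ (y i).im < (c i).im + δ} := by
    ext y
    simp [box]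
  rw [this]
  refine isOpen_iInter_of_finite fun i => ?_
  have h1 : Continuous fun y : Fin m → ℂ => (y i).re := Complex.continuous_re.comp (continuous_apply i)
  have h2 : Continuous fun y : Fin m → ℂ => (y i).im := Complex.continuous_im.comp (continuous_apply i)
  exact (isOpen_lt continuous_const h1).inter ((isOpen_lt h1 continuous_const).inter
    ((isOpen_lt continuous_const h2).inter (isOpen_lt h2 continuous_const)))

lemma mem_box_self {m : ℕ} (c : Fin m → ℂ) {δ : ℝ} (hδ : 0 < δ) : c ∈ box c δ := by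
  intro i
  refine ⟨?_, ?_, ?_, ?_⟩ <;> linarith

lemma box_subset_ball {m : ℕ} (c : Fin m → ℂ) {δ : ℝ} (hδ : 0 < δ) :
    box c δ ⊆ Metric.ball c (2 * δ + δ) := by
  intro y hy
  rw [Metric.mem_ball, dist_pi_lt_iff (by positivity)]
  intro i
  obtain ⟨h1, h2, h3, h4⟩ := hy i
  rw [dist_eq_norm]
  refine (Complex.norm_le_abs_re_add_abs_im _).trans_lt ?_
  rw [Complex.sub_re, Complex.sub_im]
  have h5 : |(y i).re - (c i).re| < δ := abs_lt.2 ⟨by linarith, by linarith⟩
  have h6 : |(y i).im - (c i).im| < δ := abs_lt.2 ⟨by linarith, by linarith⟩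
  linarith

lemma convex_box {m : ℕ} (c : Fin m → ℂ) (δ : ℝ) : Convex ℝ (box c δ) := by
  intro x hx y hy a b ha hb hab i
  obtain ⟨h1, h2, h3, h4⟩ := hx i
  obtain ⟨k1, k2, k3, k4⟩ := hy i
  have hre : ((a • x + b • y) i).re = a * (x i).re + b * (y i).re := by
    simp
  have him : ((a • x + b • y) i).im = a * (x i).im + b * (y i).im := by
    simp
  rw [hre, him]
  obtain rfl : b = 1 - a := by linarith
  refine ⟨?_, ?_, ?_, ?_⟩
  · rcases ha.eq_or_lt with rfl | ha
    · linarith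
    · nlinarith
  · rcases ha.eq_or_lt with rfl | ha
    · linarith
    · nlinarith
  · rcases ha.eq_or_lt with rfl | ha
    · linarith
    · nlinarith
  · rcases ha.eq_or_lt with rfl | ha
    · linarith
    · nlinarith

section main

open Groth.Agent.An.H162.PtsB Groth.Agent.An.H162.RelLine

variable {m : ℕ} (Δ : MvPolynomial (Fin m) ℂ)
  (R : Type*) [CommRing R] [Algebra ℂ R] [Algebra (MvPolynomial (Fin m) ℂ) R]
  [IsScalarTower ℂ (MvPolynomial (Fin m) ℂ) R] [IsLocalization.Away Δ R]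
  (D : Polynomial R) (Bf : Type*) [CommRing Bf] [Algebra ℂ Bf] [Algebra (Polynomial R) Bf]
  [IsScalarTower ℂ (Polynomial R) Bf] [IsLocalization.Away D Bf]
  {S B : Scheme.{0}} [S.Over An.SC] [B.Over An.SC] [IsAffine S] [IsAffine B]
  [LocallyOfFiniteType (S ↘ An.SC)] [LocallyOfFiniteType (B ↘ An.SC)]
  (eS : R ≃+* Γ(S, ⊤)) (heS : ∀ c, eS (algebraMap ℂ R c) = An.strHom S c)
  (eB : Bf ≃+* Γ(B, ⊤)) (heB : ∀ c, eB (algebraMap ℂ Bf c) = An.strHom B c)
  (π : B ⟶ S) [π.IsOver An.SC]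
  (hπ : ∀ r : R, π.appTop (eS r) = eB (algebraMap (Polynomial R) Bf (Polynomial.C r)))

include Δ D heS heB hπ in
/-- **Local product structure over an open box** centred at the coordinates of `s`, arbitrarily small. -/
theorem exists_box (hD : D.Monic) (hsep : D.Separable) (s : An.Pts S)
    {N : Set (An.Pts S)} (hN : N ∈ 𝓝 s) :
    ∃ (δ : ℝ) (F : Set ℂ), 0 < δ ∧ F.Finite ∧
      (∀ x : An.Pts S, coordS (m := m) R eS x ∈ box (coordS (m := m) R eS s) δ → x ∈ N) ∧
      ∃ (e : {x : An.Pts S // coordS (m := m) R eS x ∈ box (coordS (m := m) R eS s) δ} ≃ₜ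
          box (coordS (m := m) R eS s) δ)
        (φ : {b : An.Pts B // coordS (m := m) R eS (An.Pts.map π b) ∈
          box (coordS (m := m) R eS s) δ} ≃ₜ box (coordS (m := m) R eS s) δ × (Fᶜ : Set ℂ)),
        (∀ x, (e x : Fin m → ℂ) = coordS (m := m) R eS x.1) ∧
        ∀ b, ((φ b).1 : Fin m → ℂ) = coordS (m := m) R eS (An.Pts.map π b.1) := by
  obtain ⟨C, F, hCo, -, hsC, hF, hCN, e, φ, he, hφ⟩ :=
    exists_local_product Δ R D Bf eS heS eB heB π hπ hD hsep s hN
  obtain ⟨r, hr, hball⟩ := Metric.isOpen_iff.1 hCo _ hsC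
  have hδ : 0 < r / 3 := by positivity
  have hC' : box (coordS (m := m) R eS s) (r / 3) ⊆ C := by
    refine (box_subset_ball _ hδ).trans ?_
    have : 2 * (r / 3) + r / 3 = r := by ring
    rw [this]
    exact hball
  obtain ⟨e', he'⟩ := exists_restrict_chart (fun x : An.Pts S => coordS (m := m) R eS x) hC' e he
  obtain ⟨φ', hφ', -⟩ := exists_restrict
    (fun b : An.Pts B => coordS (m := m) R eS (An.Pts.map π b)) hC' φ hφ
  exact ⟨r / 3, F, hδ, hF, fun x hx => hCN x (hC' hx), e', φ', he', hφ'⟩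

end main

end Groth.Agent.An.H162.PtsBox
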