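import Groth.Agent.An.H162.PtsBox
import Groth.Agent.An.H887.SchDef

/-!
# Local product structure for `specA (Localization.Away D) ⟶ specA (Localization.Away Δ)`
-/

set_option autoImplicit false

open CategoryTheory AlgebraicGeometry Topology TopologicalSpace Opposite Filter

noncomputable section

namespace Groth.Agent.An.H162.PtsSpecA

open Groth.Agent.An.H162.PtsB Groth.Agent.An.H162.RelLine Groth.Agent.An.H162.PtsBox
open Groth.Agent.An.H887.SchDef

section gen

variable (A : Type) [CommRing A] [Algebra ℂ A]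

/-- The ring of `specA A`. -/
def eSpec : A ≃+* Γ(specA A, ⊤) := (Scheme.ΓSpecIso (CommRingCat.of A)).symm.commRingCatIsoToRingEquiv

lemma eSpec_apply (a : A) : eSpec A a = (Scheme.ΓSpecIso (CommRingCat.of A)).inv a := rfl

omit [Algebra ℂ A] in
lemma appTop_map {A' : Type} [CommRing A'] (f : A →+* A') (a : A) :
    (Spec.map (CommRingCat.ofHom f)).appTop ((Scheme.ΓSpecIso (CommRingCat.of A)).inv a) =
      (Scheme.ΓSpecIso (CommRingCat.of A')).inv (f a) := by
  have h := Scheme.ΓSpecIso_inv_naturality (CommRingCat.ofHom f)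
  exact (congr($h a)).symm

lemma eSpec_algebraMap (c : ℂ) : eSpec A (algebraMap ℂ A c) = An.strHom (specA A) c :=
  (appTop_map ℂ (algebraMap ℂ A) c).symm

instance lft [Algebra.FiniteType ℂ A] : LocallyOfFiniteType (specA A ↘ An.SC) := by
  change LocallyOfFiniteType (Spec.map (CommRingCat.ofHom (algebraMap ℂ A)))
  rw [HasRingHomProperty.Spec_iff (P := @LocallyOfFiniteType)]
  exact RingHom.finiteType_algebraMap.2 inferInstance

/-- The complex points of `specA A` are the complex points of `A`. -/
def homeoSpecA [Algebra.FiniteType ℂ A] : An.Pts (specA A) ≃ₜ Groth.Agent.Pi1.H387.Pts.Pts A :=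
  homeoPts (eSpec A) (eSpec_algebraMap A)

lemma homeoSpecA_apply [Algebra.FiniteType ℂ A] (x : An.Pts (specA A)) (a : A) :
    homeoSpecA A x a = x.evTop ((Scheme.ΓSpecIso (CommRingCat.of A)).inv a) := rfl

end gen

variable {m : ℕ} (Δ : MvPolynomial (Fin m) ℂ) (D : Polynomial (Localization.Away Δ))

instance finiteType_away : Algebra.FiniteType ℂ (Localization.Away Δ) := by
  have : Algebra.FiniteType (MvPolynomial (Fin m) ℂ) (Localization.Away Δ) :=
    IsLocalization.finiteType_of_monoid_fg (Submonoid.powers Δ) _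
  exact Algebra.FiniteType.trans (S := MvPolynomial (Fin m) ℂ) inferInstance this

instance finiteType_away₂ : Algebra.FiniteType ℂ (Localization.Away D) := by
  have h1 : Algebra.FiniteType (Polynomial (Localization.Away Δ)) (Localization.Away D) :=
    IsLocalization.finiteType_of_monoid_fg (Submonoid.powers D) _
  have h2 : Algebra.FiniteType ℂ (Polynomial (Localization.Away Δ)) :=
    Algebra.FiniteType.trans (S := Localization.Away Δ) (finiteType_away Δ) inferInstance
  exact Algebra.FiniteType.trans (S := Polynomial (Localization.Away Δ)) h2 h1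

/-- The coordinates of a complex point of `specA (Localization.Away Δ)`. -/
def coordA (x : An.Pts (specA (Localization.Away Δ))) : Fin m → ℂ :=
  coordS (m := m) (Localization.Away Δ) (eSpec (Localization.Away Δ)) x

lemma isOpenEmbedding_coordA : IsOpenEmbedding (coordA Δ) :=
  isOpenEmbedding_coordS Δ (Localization.Away Δ) (eSpec _) (eSpec_algebraMap _)

lemma range_coordA : Set.range (coordA Δ) = {y | MvPolynomial.eval y Δ ≠ 0} :=
  range_coordS Δ (Localization.Away Δ) (eSpec _) (eSpec_algebraMap _)

/-- **(PTS-B)** for `specA (Localization.Away D) ⟶ specA (Localization.Away Δ)`, over an open box centred at `s`. -/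
theorem exists_box (hD : D.Monic) (hsep : D.Separable)
    (π : specA (Localization.Away D) ⟶ specA (Localization.Away Δ)) [π.IsOver An.SC]
    (hπ : π = Spec.map (CommRingCat.ofHom (algebraMap (Localization.Away Δ) (Localization.Away D))))
    (s : An.Pts (specA (Localization.Away Δ)))
    {N : Set (An.Pts (specA (Localization.Away Δ)))} (hN : N ∈ 𝓝 s) :
    ∃ (δ : ℝ) (F : Set ℂ), 0 < δ ∧ F.Finite ∧ (∀ x, coordA Δ x ∈ box (coordA Δ s) δ → x ∈ N) ∧
      ∃ (e : {x // coordA Δ x ∈ box (coordA Δ s) δ} ≃ₜ box (coordA Δ s) δ)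
        (φ : {b : An.Pts (specA (Localization.Away D)) // coordA Δ (An.Pts.map π b) ∈
          box (coordA Δ s) δ} ≃ₜ box (coordA Δ s) δ × (Fᶜ : Set ℂ)),
        (∀ x, (e x : Fin m → ℂ) = coordA Δ x.1) ∧
        ∀ b, ((φ b).1 : Fin m → ℂ) = coordA Δ (An.Pts.map π b.1) :=
  PtsBox.exists_box Δ (Localization.Away Δ) D (Localization.Away D) (eSpec _) (eSpec_algebraMap _)
    (eSpec _) (eSpec_algebraMap _) π (by
      intro r
      rw [hπ]
      exact appTop_map _ _ _) hD hsep s hN

end Groth.Agent.An.H162.PtsSpecA
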