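import Mathlib.Analysis.Complex.Basic
import Mathlib.Topology.MetricSpace.Contracting

/-!
# Straightening a family of finite subsets of the plane

`B` a topological space, `ρ i : B → ℂ` finitely many continuous functions, each close to a constant `a i`, the `a i`
being distinct.  Then there is a homeomorphism of `B × ℂ` over `B` which carries the graph of `ρ i` to `B × {a i}`.
-/

set_option autoImplicit false

open Topology Filter

namespace Groth.Agent.An.H162.Straighten

/-- The tent function of height one and radius `r` at `a`. -/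
noncomputable def tent (r : ℝ) (a z : ℂ) : ℝ := max 0 (1 - ‖z - a‖ / r)

lemma tent_self (r : ℝ) (a : ℂ) : tent r a a = 1 := by
  simp [tent]

lemma tent_eq_zero {r : ℝ} (hr : 0 < r) {a z : ℂ} (h : r ≤ ‖z - a‖) : tent r a z = 0 := by
  rw [tent, max_eq_left]
  rw [sub_nonpos, le_div_iff₀ hr, one_mul]
  exact h

lemma tent_nonneg (r : ℝ) (a z : ℂ) : 0 ≤ tent r a z := le_max_left _ _

lemma tent_le_one {r : ℝ} (hr : 0 < r) (a z : ℂ) : tent r a z ≤ 1 := by
  refine max_le zero_le_one ?_
  have : 0 ≤ ‖z - a‖ / r := by positivity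
  linarith

lemma abs_tent_sub_le {r : ℝ} (hr : 0 < r) (a z w : ℂ) :
    |tent r a z - tent r a w| ≤ ‖z - w‖ / r := by
  have h1 : |tent r a z - tent r a w| ≤ |(1 - ‖z - a‖ / r) - (1 - ‖w - a‖ / r)| := by
    unfold tent
    refine (abs_max_sub_max_le_max _ _ _ _).trans ?_
    simp
  refine h1.trans ?_
  have h2 : (1 - ‖z - a‖ / r) - (1 - ‖w - a‖ / r) = (‖w - a‖ - ‖z - a‖) / r := by ring
  rw [h2, abs_div, abs_of_pos hr]
  refine div_le_div_of_nonneg_right ?_ hr.le
  refine (abs_norm_sub_norm_le _ _).trans (le_of_eq ?_)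
  rw [← norm_neg]
  congr 1
  ring

lemma continuous_tent (r : ℝ) (a : ℂ) : Continuous (tent r a) :=
  continuous_const.max (continuous_const.sub (((continuous_id.sub continuous_const).norm).div_const r))

section disp

variable {ι : Type*} [Fintype ι] (a : ι → ℂ) (r : ℝ)

/-- The displacement. -/
noncomputable def disp (v : ι → ℂ) (z : ℂ) : ℂ := ∑ i, (tent r (a i) z : ℂ) * v i

variable {r}

lemma norm_disp_sub_le (hr : 0 < r) (v : ι → ℂ) (hv : ∑ i, ‖v i‖ ≤ r / 2) (z w : ℂ) :
    ‖disp a r v z - disp a r v w‖ ≤ ‖z - w‖ / 2 := by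
  have h1 : disp a r v z - disp a r v w = ∑ i, ((tent r (a i) z - tent r (a i) w : ℝ) : ℂ) * v i := by
    rw [disp, disp, ← Finset.sum_sub_distrib]
    refine Finset.sum_congr rfl fun i _ => ?_
    push_cast
    ring
  rw [h1]
  calc ‖∑ i, ((tent r (a i) z - tent r (a i) w : ℝ) : ℂ) * v i‖
      ≤ ∑ i, ‖((tent r (a i) z - tent r (a i) w : ℝ) : ℂ) * v i‖ := norm_sum_le _ _
    _ ≤ ∑ i, (‖z - w‖ / r) * ‖v i‖ := by
        refine Finset.sum_le_sum fun i _ => ?_
        rw [norm_mul, Complex.norm_real, Real.norm_eq_abs]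
        exact mul_le_mul_of_nonneg_right (abs_tent_sub_le hr _ _ _) (norm_nonneg _)
    _ = (‖z - w‖ / r) * ∑ i, ‖v i‖ := by rw [Finset.mul_sum]
    _ ≤ (‖z - w‖ / r) * (r / 2) := mul_le_mul_of_nonneg_left hv (by positivity)
    _ = ‖z - w‖ / 2 := by field_simp

lemma disp_self (hr : 0 < r) (hsep : ∀ i j, i ≠ j → r ≤ ‖a i - a j‖) (v : ι → ℂ) (i : ι) :
    disp a r v (a i) = v i := by
  classical
  rw [disp, Finset.sum_eq_single i]
  · rw [tent_self]; simp
  · intro j _ hj
    rw [tent_eq_zero hr (hsep i j (Ne.symm hj))]; simp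
  · intro h
    exact absurd (Finset.mem_univ _) h

/-- The perturbation of the identity. -/
noncomputable def pert (r : ℝ) (v : ι → ℂ) (z : ℂ) : ℂ := z + disp a r v z

lemma norm_sub_le_pert (hr : 0 < r) (v : ι → ℂ) (hv : ∑ i, ‖v i‖ ≤ r / 2) (z w : ℂ) :
    ‖z - w‖ ≤ 2 * ‖pert a r v z - pert a r v w‖ := by
  have h1 := norm_disp_sub_le a hr v hv z w
  have h2 : z - w = (pert a r v z - pert a r v w) - (disp a r v z - disp a r v w) := by
    simp only [pert]; ring
  have h3 : ‖z - w‖ ≤ ‖pert a r v z - pert a r v w‖ + ‖disp a r v z - disp a r v w‖ := by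
    conv_lhs => rw [h2]
    exact norm_sub_le _ _
  linarith

lemma pert_surjective (hr : 0 < r) (v : ι → ℂ) (hv : ∑ i, ‖v i‖ ≤ r / 2) :
    Function.Surjective (pert a r v) := by
  intro w
  have hc : ContractingWith (1 / 2 : NNReal) (fun z => w - disp a r v z) := by
    refine ⟨by norm_num, LipschitzWith.of_dist_le_mul fun z z' => ?_⟩
    rw [dist_eq_norm, dist_eq_norm]
    have h1 : (w - disp a r v z) - (w - disp a r v z') = -(disp a r v z - disp a r v z') := by ring
    rw [h1, norm_neg]
    refine (norm_disp_sub_le a hr v hv z z').trans (le_of_eq ?_)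
    push_cast
    ring
  refine ⟨hc.fixedPoint, ?_⟩
  have h2 : w - disp a r v hc.fixedPoint = hc.fixedPoint := hc.fixedPoint_isFixedPt
  rw [pert]
  nth_rewrite 1 [← h2]
  ring

end disp

/-- A family of maps of the plane, continuous, surjective and uniformly expanding, gives a homeomorphism of the
total space. -/
theorem exists_homeo_of_expanding {B : Type*} [TopologicalSpace B] (ψ : B → ℂ → ℂ)
    (hc : Continuous fun q : B × ℂ => ψ q.1 q.2) (hs : ∀ b, Function.Surjective (ψ b))
    (hψ : ∀ b z w, ‖z - w‖ ≤ 2 * ‖ψ b z - ψ b w‖) :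
    ∃ e : (B × ℂ) ≃ₜ (B × ℂ), ∀ b z, e (b, z) = (b, ψ b z) := by
  choose inv hinv using hs
  have hinj : ∀ b, Function.Injective (ψ b) := by
    intro b z w h
    have := hψ b z w
    rw [h, sub_self, norm_zero, mul_zero] at this
    exact sub_eq_zero.1 (norm_le_zero_iff.1 this)
  refine ⟨{ toFun := fun q => (q.1, ψ q.1 q.2)
            invFun := fun q => (q.1, inv q.1 q.2)
            left_inv := fun q => Prod.ext rfl (hinj q.1 (hinv q.1 _))
            right_inv := fun q => Prod.ext rfl (hinv q.1 q.2)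
            continuous_toFun := continuous_fst.prodMk hc
            continuous_invFun := continuous_fst.prodMk ?_ }, fun b z => rfl⟩
  rw [continuous_iff_continuousAt]
  rintro ⟨b0, w0⟩
  rw [ContinuousAt, tendsto_iff_norm_sub_tendsto_zero]
  have h1 : Tendsto (fun q : B × ℂ => 2 * ‖q.2 - ψ q.1 (inv b0 w0)‖) (𝓝 (b0, w0)) (𝓝 0) := by
    have h2 : Continuous fun q : B × ℂ => 2 * ‖q.2 - ψ q.1 (inv b0 w0)‖ :=
      continuous_const.mul ((continuous_snd.sub
        (hc.comp (continuous_fst.prodMk continuous_const))).norm)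
    have h3 := h2.tendsto (b0, w0)
    simpa [hinv] using h3
  refine squeeze_zero (fun _ => norm_nonneg _) (fun q => ?_) h1
  have h4 := hψ q.1 (inv q.1 q.2) (inv b0 w0)
  rw [hinv] at h4
  exact h4

/-- **Straightening.** -/
theorem exists_homeo {B : Type*} [TopologicalSpace B] {ι : Type*} [Fintype ι] (a : ι → ℂ)
    (ρ : ι → B → ℂ) (hρ : ∀ i, Continuous (ρ i)) {r : ℝ} (hr : 0 < r)
    (hsep : ∀ i j, i ≠ j → r ≤ ‖a i - a j‖) (hsmall : ∀ b, ∑ i, ‖ρ i b - a i‖ ≤ r / 2) :
    ∃ e : (B × ℂ) ≃ₜ (B × ℂ), (∀ q, (e q).1 = q.1) ∧ ∀ b i, e (b, ρ i b) = (b, a i) := by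
  have hcont : Continuous fun q : B × ℂ => pert a r (fun i => ρ i q.1 - a i) q.2 := by
    unfold pert disp
    refine continuous_snd.add (continuous_finsetSum _ fun i _ => ?_)
    refine (Complex.continuous_ofReal.comp ((continuous_tent r (a i)).comp continuous_snd)).mul ?_
    exact ((hρ i).comp continuous_fst).sub continuous_const
  obtain ⟨e, he⟩ := exists_homeo_of_expanding (fun b => pert a r (fun i => ρ i b - a i)) hcont
    (fun b => pert_surjective a hr _ (hsmall b)) (fun b => norm_sub_le_pert a hr _ (hsmall b))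
  refine ⟨e.symm, fun q => ?_, fun b i => ?_⟩
  · have h1 := he (e.symm q).1 (e.symm q).2
    rw [Prod.mk.eta, e.apply_symm_apply] at h1
    exact (congrArg Prod.fst h1).symm
  · rw [Homeomorph.symm_apply_eq, he]
    refine Prod.ext rfl ?_
    change ρ i b = a i + disp a r (fun i => ρ i b - a i) (a i)
    rw [disp_self a hr hsep]
    ring

/-- The complement of the graphs is the product of the base with the complement of a finite set. -/
theorem exists_homeo_compl {B : Type*} [TopologicalSpace B] {ι : Type*} [Fintype ι] (a : ι → ℂ)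
    (ρ : ι → B → ℂ) (hρ : ∀ i, Continuous (ρ i)) {r : ℝ} (hr : 0 < r)
    (hsep : ∀ i j, i ≠ j → r ≤ ‖a i - a j‖) (hsmall : ∀ b, ∑ i, ‖ρ i b - a i‖ ≤ r / 2) :
    ∃ e : {q : B × ℂ // ∀ i, q.2 ≠ ρ i q.1} ≃ₜ B × ((Set.range a)ᶜ : Set ℂ),
      ∀ q, (e q).1 = q.1.1 := by
  obtain ⟨e, he1, he2⟩ := exists_homeo a ρ hρ hr hsep hsmall
  have key : ∀ q : B × ℂ, (∀ i, q.2 ≠ ρ i q.1) ↔ (e q).2 ∈ (Set.range a)ᶜ := by
    intro q
    rw [Set.mem_compl_iff, Set.mem_range, not_exists]
    refine forall_congr' fun i => not_congr ⟨fun h => ?_, fun h => ?_⟩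
    · have : q = (q.1, ρ i q.1) := Prod.ext rfl h
      rw [this, he2]
    · have h1 : e q = e (q.1, ρ i q.1) := by
        rw [he2]
        exact Prod.ext (he1 q) h.symm
      exact congrArg Prod.snd (e.injective h1)
  refine ⟨{ toFun := fun q => ((e q.1).1, ⟨(e q.1).2, (key q.1).1 q.2⟩)
            invFun := fun q => ⟨e.symm (q.1, q.2.1), (key _).2 (by
              rw [e.apply_symm_apply]; exact q.2.2)⟩
            left_inv := fun q => Subtype.ext (by
              change e.symm (e q.1) = q.1
              exact e.symm_apply_apply q.1)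
            right_inv := fun q => by
              refine Prod.ext ?_ (Subtype.ext ?_)
              · change (e (e.symm (q.1, q.2.1))).1 = q.1
                rw [e.apply_symm_apply]
              · change (e (e.symm (q.1, q.2.1))).2 = q.2.1
                rw [e.apply_symm_apply]
            continuous_toFun := ?_
            continuous_invFun := ?_ }, fun q => he1 q.1⟩
  · have h1 : Continuous fun q : {q : B × ℂ // ∀ i, q.2 ≠ ρ i q.1} => e q.1 :=
      e.continuous.comp continuous_subtype_val
    exact (continuous_fst.comp h1).prodMk ((continuous_snd.comp h1).subtype_mk _)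
  · refine Continuous.subtype_mk ?_ _
    exact e.symm.continuous.comp
      (continuous_fst.prodMk (continuous_subtype_val.comp continuous_snd))

end Groth.Agent.An.H162.Straighten
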