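import Groth.Agent.Pi1.H387.PtsLoc
import Groth.Agent.An.H526.RootCov
import Groth.Agent.An.H162.Straighten

/-!
# Complex points of `R[X]_D`, `R = ℂ[y₁..y_m]_Δ`, `D` monic separable: local product structure over `Pts R`
-/

set_option autoImplicit false

open Topology Filter

noncomputable section

namespace Groth.Agent.An.H162.RelLine

open Groth.Agent.Pi1.H387.Pts

section affine

/-- The complex points of affine space. -/
def affine (ι : Type*) : Pts (MvPolynomial ι ℂ) ≃ₜ (ι → ℂ) where
  toFun x := fun i => x (MvPolynomial.X i)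
  invFun y := (MvPolynomial.aeval y : MvPolynomial ι ℂ →ₐ[ℂ] ℂ)
  left_inv x := by
    have : (MvPolynomial.aeval (fun i => x (MvPolynomial.X i)) : MvPolynomial ι ℂ →ₐ[ℂ] ℂ) =
        (x : MvPolynomial ι ℂ →ₐ[ℂ] ℂ) := by
      apply MvPolynomial.algHom_ext
      intro i
      rw [MvPolynomial.aeval_X]; rfl
    exact this
  right_inv y := by
    funext i
    exact MvPolynomial.aeval_X y i
  continuous_toFun := continuous_pi fun i => continuous_ev _
  continuous_invFun := continuous_iff.2 fun b => by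
    change Continuous fun z => (MvPolynomial.eval z b : ℂ)
    exact MvPolynomial.continuous_eval b

lemma apply_eq_eval {ι : Type*} (x : Pts (MvPolynomial ι ℂ)) (p : MvPolynomial ι ℂ) :
    x p = MvPolynomial.eval (affine ι x) p := by
  have h : (affine ι).symm (affine ι x) = x := (affine ι).symm_apply_apply x
  conv_lhs => rw [← h]
  rfl

end affine

section relline

variable (A : Type*) [CommRing A] [Algebra ℂ A]

/-- The value of a polynomial at a point of the relative line. -/
lemma apply_poly (x : Pts (Polynomial A)) (p : Polynomial A) :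
    x p = (p.map ((proj A (Polynomial A) x : A →ₐ[ℂ] ℂ) : A →+* ℂ)).eval (x Polynomial.X) := by
  induction p using Polynomial.induction_on' with
  | add p q hp hq => rw [map_add, hp, hq, Polynomial.map_add, Polynomial.eval_add]
  | monomial n a =>
    rw [Polynomial.map_monomial, Polynomial.eval_monomial, ← Polynomial.C_mul_X_pow_eq_monomial,
      map_mul, map_pow]
    rfl

/-- The complex points of the relative affine line. -/
def relLine : Pts (Polynomial A) ≃ₜ Pts A × ℂ where
  toFun x := (proj A (Polynomial A) x, x Polynomial.X)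
  invFun q := (Polynomial.eval₂AlgHom (q.1 : A →ₐ[ℂ] ℂ) q.2 (fun _ => Commute.all _ _) :
    Polynomial A →ₐ[ℂ] ℂ)
  left_inv x := by
    refine ext' fun p => ?_
    change Polynomial.eval₂ ((proj A (Polynomial A) x : A →ₐ[ℂ] ℂ) : A →+* ℂ) (x Polynomial.X) p = x p
    rw [apply_poly A x p, Polynomial.eval_map]
  right_inv q := by
    refine Prod.ext (ext' fun a => ?_) ?_
    · change Polynomial.eval₂ ((q.1 : A →ₐ[ℂ] ℂ) : A →+* ℂ) q.2 (Polynomial.C a) = q.1 a
      rw [Polynomial.eval₂_C]
      rfl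
    · change Polynomial.eval₂ ((q.1 : A →ₐ[ℂ] ℂ) : A →+* ℂ) q.2 Polynomial.X = q.2
      rw [Polynomial.eval₂_X]
  continuous_toFun := (continuous_proj).prodMk (continuous_ev _)
  continuous_invFun := continuous_iff.2 fun p => by
    change Continuous fun q : Pts A × ℂ =>
      Polynomial.eval₂ ((q.1 : A →ₐ[ℂ] ℂ) : A →+* ℂ) q.2 p
    simp only [Polynomial.eval₂_eq_sum_range]
    refine continuous_finsetSum _ fun i _ => ?_
    exact ((continuous_ev (p.coeff i)).comp continuous_fst).mul (continuous_snd.pow i)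

end relline

section coord

variable (m : ℕ) (R : Type*) [CommRing R] [Algebra ℂ R] [Algebra (MvPolynomial (Fin m) ℂ) R]
  [IsScalarTower ℂ (MvPolynomial (Fin m) ℂ) R]

/-- The coordinates of a point of `R`. -/
def coord (x : Pts R) : Fin m → ℂ := fun i => x (algebraMap (MvPolynomial (Fin m) ℂ) R (MvPolynomial.X i))

lemma coord_eq : coord m R = affine (Fin m) ∘ proj (MvPolynomial (Fin m) ℂ) R := rfl

lemma continuous_coord : Continuous (coord m R) := (affine (Fin m)).continuous.comp continuous_proj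

lemma apply_algebraMap (x : Pts R) (p : MvPolynomial (Fin m) ℂ) :
    x (algebraMap (MvPolynomial (Fin m) ℂ) R p) = MvPolynomial.eval (coord m R x) p :=
  apply_eq_eval (proj (MvPolynomial (Fin m) ℂ) R x) p

variable (Δ : MvPolynomial (Fin m) ℂ) [IsLocalization.Away Δ R]

include Δ in
lemma isOpenEmbedding_coord : IsOpenEmbedding (coord m R) :=
  (affine (Fin m)).isOpenEmbedding.comp (isOpenEmbedding_proj Δ)

lemma range_coord : Set.range (coord m R) = {y | MvPolynomial.eval y Δ ≠ 0} := by
  ext y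
  constructor
  · rintro ⟨x, rfl⟩
    rw [Set.mem_ofPred_eq, ← apply_algebraMap]
    exact proj_apply_ne_zero Δ x
  · intro hy
    have h1 : ((affine (Fin m)).symm y : Pts (MvPolynomial (Fin m) ℂ)) Δ ≠ 0 := by
      rw [apply_eq_eval, Homeomorph.apply_symm_apply]
      exact hy
    refine ⟨lift (Bf := R) Δ _ h1, ?_⟩
    rw [coord_eq, Function.comp_apply, proj_lift, Homeomorph.apply_symm_apply]

end coord

section abs

/-- Restriction of an embedding into a product to the part over a subset of the first factor. -/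
def restrHomeo {T Y Z : Type*} [TopologicalSpace T] [TopologicalSpace Y] [TopologicalSpace Z]
    {J : T → Y × Z} (hJ : IsEmbedding J) (C : Set Y) :
    {t : T // (J t).1 ∈ C} ≃ₜ {q : C × Z // ((q.1 : Y), q.2) ∈ Set.range J} where
  toFun t := ⟨(⟨(J t.1).1, t.2⟩, (J t.1).2), ⟨t.1, rfl⟩⟩
  invFun q := ⟨hJ.toHomeomorph.symm ⟨((q.1.1 : Y), q.1.2), q.2⟩, by
    have h : J (hJ.toHomeomorph.symm ⟨((q.1.1 : Y), q.1.2), q.2⟩) = ((q.1.1 : Y), q.1.2) :=
      congrArg Subtype.val (hJ.toHomeomorph.apply_symm_apply ⟨((q.1.1 : Y), q.1.2), q.2⟩)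
    rw [h]
    exact q.1.1.2⟩
  left_inv t := Subtype.ext (hJ.toHomeomorph.symm_apply_apply t.1)
  right_inv q := by
    have h : J (hJ.toHomeomorph.symm ⟨((q.1.1 : Y), q.1.2), q.2⟩) = ((q.1.1 : Y), q.1.2) :=
      congrArg Subtype.val (hJ.toHomeomorph.apply_symm_apply ⟨((q.1.1 : Y), q.1.2), q.2⟩)
    refine Subtype.ext (Prod.ext (Subtype.ext ?_) ?_)
    · exact congrArg Prod.fst h
    · change (J _).2 = q.1.2
      rw [h]
  continuous_toFun := by
    have h : Continuous fun t : {t : T // (J t).1 ∈ C} => J t.1 :=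
      hJ.continuous.comp continuous_subtype_val
    exact (((continuous_fst.comp h).subtype_mk _).prodMk (continuous_snd.comp h)).subtype_mk _
  continuous_invFun := by
    refine Continuous.subtype_mk ?_ _
    refine hJ.toHomeomorph.symm.continuous.comp (Continuous.subtype_mk ?_ _)
    exact (continuous_subtype_val.comp (continuous_fst.comp continuous_subtype_val)).prodMk
      (continuous_snd.comp continuous_subtype_val)

lemma restrHomeo_fst {T Y Z : Type*} [TopologicalSpace T] [TopologicalSpace Y] [TopologicalSpace Z]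
    {J : T → Y × Z} (hJ : IsEmbedding J) (C : Set Y) (t : {t : T // (J t).1 ∈ C}) :
    ((restrHomeo hJ C t).1.1 : Y) = (J t.1).1 := rfl

/-- Separation of a finite set. -/
lemma exists_sep (s : Finset ℂ) : ∃ r > 0, ∀ i ∈ s, ∀ j ∈ s, i ≠ j → r ≤ ‖i - j‖ := by
  classical
  by_cases hne : (s ×ˢ s).filter (fun p => p.1 ≠ p.2) = ∅
  · refine ⟨1, one_pos, fun i hi j hj hij => ?_⟩
    have h9 : (i, j) ∈ (s ×ˢ s).filter (fun p => p.1 ≠ p.2) :=
      Finset.mem_filter.2 ⟨Finset.mem_product.2 ⟨hi, hj⟩, hij⟩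
    rw [hne] at h9
    simp at h9
  · obtain ⟨p, hp, hmin⟩ := Finset.exists_min_image ((s ×ˢ s).filter (fun p => p.1 ≠ p.2))
      (fun p => ‖p.1 - p.2‖) (Finset.nonempty_iff_ne_empty.2 hne)
    exact ⟨‖p.1 - p.2‖, norm_pos_iff.2 (sub_ne_zero.2 (Finset.mem_filter.1 hp).2),
      fun i hi j hj hij => hmin (i, j) (Finset.mem_filter.2 ⟨Finset.mem_product.2 ⟨hi, hj⟩, hij⟩)⟩

end abs

section main

variable {m : ℕ} (Δ : MvPolynomial (Fin m) ℂ)
  (R : Type*) [CommRing R] [Algebra ℂ R] [Algebra (MvPolynomial (Fin m) ℂ) R]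
  [IsScalarTower ℂ (MvPolynomial (Fin m) ℂ) R] [IsLocalization.Away Δ R]
  (D : Polynomial R) (Bf : Type*) [CommRing Bf] [Algebra ℂ Bf] [Algebra (Polynomial R) Bf]
  [IsScalarTower ℂ (Polynomial R) Bf] [IsLocalization.Away D Bf]

/-- The coordinates of a point of `R[X]_D`. -/
def J (b : Pts Bf) : (Fin m → ℂ) × ℂ :=
  (coord m R (proj R (Polynomial R) (proj (Polynomial R) Bf b)), b (algebraMap (Polynomial R) Bf Polynomial.X))

omit [IsScalarTower ℂ (MvPolynomial (Fin m) ℂ) R] in
lemma J_eq : J (m := m) R Bf =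
    Prod.map (coord m R) id ∘ relLine R ∘ proj (Polynomial R) Bf := rfl

include Δ D in
lemma isOpenEmbedding_J : IsOpenEmbedding (J (m := m) R Bf) := by
  rw [J_eq]
  exact ((isOpenEmbedding_coord m R Δ).prodMap IsOpenEmbedding.id).comp
    ((relLine R).isOpenEmbedding.comp (isOpenEmbedding_proj D))


/-- The projection to the points of `R`. -/
def prR (b : Pts Bf) : Pts R := proj R (Polynomial R) (proj (Polynomial R) Bf b)

omit [IsScalarTower ℂ (MvPolynomial (Fin m) ℂ) R] in
lemma J_fst (b : Pts Bf) : (J (m := m) R Bf b).1 = coord m R (prR R Bf b) := rfl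

lemma continuous_prR : Continuous (prR R Bf) := continuous_proj.comp continuous_proj

include Δ in
lemma mem_range_J (x : Pts R) (z : ℂ) :
    (coord m R x, z) ∈ Set.range (J (m := m) R Bf) ↔
      (D.map ((x : R →ₐ[ℂ] ℂ) : R →+* ℂ)).eval z ≠ 0 := by
  constructor
  · rintro ⟨b, hb⟩
    have h1 : prR R Bf b = x :=
      (isOpenEmbedding_coord m R Δ).injective (congrArg Prod.fst hb)
    have h2 : (proj (Polynomial R) Bf b) Polynomial.X = z := congrArg Prod.snd hb
    have h3 := proj_apply_ne_zero (Bf := Bf) D b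
    rw [apply_poly R _ D, h2] at h3
    rw [← h1]
    exact h3
  · intro h
    set y : Pts (Polynomial R) := (relLine R).symm (x, z) with hy
    have h1 : (relLine R) y = (x, z) := (relLine R).apply_symm_apply _
    have h2 : proj R (Polynomial R) y = x := congrArg Prod.fst h1
    have h3 : y Polynomial.X = z := congrArg Prod.snd h1
    have h4 : y D ≠ 0 := by
      rw [apply_poly R y D, h2, h3]
      exact h
    refine ⟨lift (Bf := Bf) D y h4, ?_⟩
    have h5 : proj (Polynomial R) Bf (lift (Bf := Bf) D y h4) = y := proj_lift D y h4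
    refine Prod.ext ?_ ?_
    · change coord m R (proj R (Polynomial R) (proj (Polynomial R) Bf _)) = coord m R x
      rw [h5, h2]
    · change (proj (Polynomial R) Bf (lift (Bf := Bf) D y h4)) Polynomial.X = z
      rw [h5, h3]

/-- Restriction of an embedding to the part over a subset contained in the image. -/
def overHomeo {T Y : Type*} [TopologicalSpace T] [TopologicalSpace Y] {K : T → Y}
    (hK : IsEmbedding K) (C : Set Y) (hC : C ⊆ Set.range K) : {t : T // K t ∈ C} ≃ₜ C where
  toFun t := ⟨K t.1, t.2⟩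
  invFun c := ⟨hK.toHomeomorph.symm ⟨c.1, hC c.2⟩, by
    have h : K (hK.toHomeomorph.symm ⟨c.1, hC c.2⟩) = c.1 :=
      congrArg Subtype.val (hK.toHomeomorph.apply_symm_apply ⟨c.1, hC c.2⟩)
    rw [h]
    exact c.2⟩
  left_inv t := Subtype.ext (hK.toHomeomorph.symm_apply_apply t.1)
  right_inv c := by
    have h : K (hK.toHomeomorph.symm ⟨c.1, hC c.2⟩) = c.1 :=
      congrArg Subtype.val (hK.toHomeomorph.apply_symm_apply ⟨c.1, hC c.2⟩)
    exact Subtype.ext h
  continuous_toFun := (hK.continuous.comp continuous_subtype_val).subtype_mk _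
  continuous_invFun := by
    refine Continuous.subtype_mk ?_ _
    exact hK.toHomeomorph.symm.continuous.comp (continuous_subtype_val.subtype_mk _)

lemma overHomeo_apply {T Y : Type*} [TopologicalSpace T] [TopologicalSpace Y] {K : T → Y}
    (hK : IsEmbedding K) (C : Set Y) (hC : C ⊆ Set.range K) (t : {t : T // K t ∈ C}) :
    (overHomeo hK C hC t : Y) = K t.1 := rfl

include Δ in
/-- **Local product structure**: near a point `s` of `Pts R`, the points of `R[X]_D` form, over a convex open set of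
`ℂᵐ`, the product with the complement of a finite set. -/
theorem exists_local_product (hD : D.Monic) (hsep : D.Separable) (s : Pts R) {N : Set (Pts R)}
    (hN : N ∈ 𝓝 s) :
    ∃ (C : Set (Fin m → ℂ)) (F : Set ℂ), IsOpen C ∧ Convex ℝ C ∧ coord m R s ∈ C ∧ F.Finite ∧
      (∀ x : Pts R, coord m R x ∈ C → x ∈ N) ∧
      ∃ (e : {x : Pts R // coord m R x ∈ C} ≃ₜ C)
        (φ : {b : Pts Bf // coord m R (prR R Bf b) ∈ C} ≃ₜ C × (Fᶜ : Set ℂ)),
        (∀ x, (e x : Fin m → ℂ) = coord m R x.1) ∧
        ∀ b, ((φ b).1 : Fin m → ℂ) = coord m R (prR R Bf b.1) := by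
  classical
  have hcoord := isOpenEmbedding_coord m R Δ
  -- the family of polynomials
  let P : Pts R → Polynomial ℂ := fun x => D.map ((x : R →ₐ[ℂ] ℂ) : R →+* ℂ)
  have hPm : ∀ x, (P x).Monic := fun x => hD.map _
  have hPd : ∀ x, (P x).natDegree = D.natDegree := fun x => hD.natDegree_map _
  have hPc : ∀ i, Continuous fun x => (P x).coeff i := by
    intro i
    have : (fun x : Pts R => (P x).coeff i) = fun x => x (D.coeff i) := by
      funext x
      exact Polynomial.coeff_map _ _
    rw [this]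
    exact continuous_ev _
  have hPs : (P s).Separable := hsep.map
  have hex := Groth.Agent.An.H526.RootCov.exists_local hPm hPd hPc s hPs
  obtain ⟨r0, hr0⟩ : ∃ r0 : Finset ℂ, r0 = (P s).roots.toFinset := ⟨_, rfl⟩
  rw [← hr0] at hex
  obtain ⟨V, ε, ρ, hVo, hsV, hε, hρc, hρ, hu, huniq⟩ := hex
  obtain ⟨r, hr, hrsep⟩ := exists_sep r0
  have hρs : ∀ i : r0, ρ i ⟨s, hsV⟩ = i := by
    intro i
    have h1 : (P s).eval (i : ℂ) = 0 := by
      have h2 : (i : ℂ) ∈ (P s).roots.toFinset := hr0 ▸ i.2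
      rw [Multiset.mem_toFinset, Polynomial.mem_roots (hPm s).ne_zero] at h2
      exact h2
    exact (huniq i ⟨s, hsV⟩ i h1 (by simpa using hε)).symm
  -- the small neighbourhood
  let σ : V → ℝ := fun b => ∑ i : r0, ‖ρ i b - i‖
  have hσ : Continuous σ := continuous_finsetSum _ fun i _ => ((hρc i).sub continuous_const).norm
  have hσs : σ ⟨s, hsV⟩ = 0 := by
    refine Finset.sum_eq_zero fun i _ => ?_
    rw [hρs i, sub_self, norm_zero]
  let W : Set (Pts R) := Subtype.val '' {b : V | σ b < r / 2}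
  have hWo : IsOpen W := hVo.isOpenMap_subtype_val _ (isOpen_lt hσ continuous_const)
  have hsW : s ∈ W := ⟨⟨s, hsV⟩, by
    rw [Set.mem_ofPred_eq, hσs]; positivity, rfl⟩
  obtain ⟨N', hN'N, hN'o, hsN'⟩ := mem_nhds_iff.1 hN
  have hO : IsOpen (coord m R '' (W ∩ N')) := hcoord.isOpenMap _ (hWo.inter hN'o)
  have hsO : coord m R s ∈ coord m R '' (W ∩ N') := ⟨s, ⟨hsW, hsN'⟩, rfl⟩
  obtain ⟨δ, hδ, hball⟩ := Metric.isOpen_iff.1 hO _ hsO
  set C : Set (Fin m → ℂ) := Metric.ball (coord m R s) δ with hC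
  have hCr : C ⊆ Set.range (coord m R) := hball.trans (Set.image_subset_range _ _)
  have hCW : ∀ x : Pts R, coord m R x ∈ C → x ∈ W ∩ N' := by
    intro x hx
    obtain ⟨y, hy, hyx⟩ := hball hx
    rwa [hcoord.injective hyx] at hy
  let e : {x : Pts R // coord m R x ∈ C} ≃ₜ C := overHomeo hcoord.isEmbedding C hCr
  have hinvV : ∀ c : C, (e.symm c).1 ∈ V := by
    intro c
    obtain ⟨b, _, hb⟩ := (hCW _ (e.symm c).2).1
    rw [← hb]
    exact b.2
  let τ : C → V := fun c => ⟨(e.symm c).1, hinvV c⟩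
  have hτ : Continuous τ := (continuous_subtype_val.comp e.symm.continuous).subtype_mk _
  have hτσ : ∀ c : C, σ (τ c) ≤ r / 2 := by
    intro c
    obtain ⟨b, hb1, hb⟩ := (hCW _ (e.symm c).2).1
    have : τ c = b := Subtype.ext hb.symm
    rw [this]
    exact (show σ b < r / 2 from hb1).le
  have hτc : ∀ c : C, coord m R (τ c).1 = c := fun c => congrArg Subtype.val (e.apply_symm_apply c)
  obtain ⟨e2, he2⟩ := Straighten.exists_homeo_compl (B := C) (fun i : r0 => (i : ℂ))
    (fun i c => ρ i (τ c)) (fun i => (hρc i).comp hτ) hr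
    (fun i j hij => hrsep i i.2 j j.2 fun h => hij (Subtype.ext h)) hτσ
  have hiff : ∀ q : C × ℂ, ((q.1 : Fin m → ℂ), q.2) ∈ Set.range (J (m := m) R Bf) ↔
      ∀ i : r0, q.2 ≠ ρ i (τ q.1) := by
    intro q
    have h1 := mem_range_J (m := m) Δ R D Bf (τ q.1).1 q.2
    rw [hτc] at h1
    rw [h1]
    constructor
    · intro h i hi
      apply h
      rw [hi]
      exact (hρ i (τ q.1)).1
    · intro h h0
      obtain ⟨i, hi, -⟩ := hu (τ q.1) q.2 h0
      exact h i (huniq i (τ q.1) q.2 h0 hi)
  let φ0 : {q : C × ℂ // ((q.1 : Fin m → ℂ), q.2) ∈ Set.range (J (m := m) R Bf)} ≃ₜ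
      {q : C × ℂ // ∀ i : r0, q.2 ≠ ρ i (τ q.1)} :=
    { toFun := fun q => ⟨q.1, (hiff q.1).1 q.2⟩
      invFun := fun q => ⟨q.1, (hiff q.1).2 q.2⟩
      left_inv := fun q => rfl
      right_inv := fun q => rfl
      continuous_toFun := continuous_subtype_val.subtype_mk _
      continuous_invFun := continuous_subtype_val.subtype_mk _ }
  refine ⟨C, Set.range (fun i : r0 => (i : ℂ)), Metric.isOpen_ball, convex_ball _ _,
    Metric.mem_ball_self hδ, Set.finite_range _, fun x hx => hN'N (hCW x hx).2, e,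
    ((restrHomeo (isOpenEmbedding_J Δ R D Bf).isEmbedding C).trans φ0).trans e2,
    fun x => rfl, fun b => ?_⟩
  change ((e2 _).1 : Fin m → ℂ) = _
  rw [he2]
  rfl

end main

end Groth.Agent.An.H162.RelLine
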